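import Mathlib.RingTheory.DiscreteValuationRing.Basic
import Mathlib.LinearAlgebra.FiniteDimensional.Lemmas
import Mathlib.Data.Set.Card

/-!
# The orders of a finite-dimensional space of elements of a discrete valuation ring
-/

set_option autoImplicit false
set_option linter.all false

open IsDiscreteValuationRing

namespace GrothLib.VanSeq2

universe u v

variable {k : Type u} [Field k] {R : Type v} [CommRing R] [IsDomain R] [IsDiscreteValuationRing R] [Algebra k R]

/-- An `n`-dimensional space has exactly `n` orders when the residue field is the ground field. -/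
theorem ncard_addVal (hres : ∀ a : R, ∃ c : k, 1 ≤ addVal R (a - algebraMap k R c)) :
    ∀ (n : ℕ) (V : Submodule k R) [FiniteDimensional k V], Module.finrank k V = n →
      ((fun v => addVal R v) '' {v : R | v ∈ V ∧ v ≠ 0}).Finite ∧
        ((fun v => addVal R v) '' {v : R | v ∈ V ∧ v ≠ 0}).ncard = n := by
  intro n
  induction n with
  | zero =>
    intro V _ hV
    rw [Submodule.finrank_eq_zero] at hV
    have : {v : R | v ∈ V ∧ v ≠ 0} = ∅ := by ext v; simp [hV]
    simp [this]
  | succ n ih =>
    intro V _ hV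
    set S := (fun v => addVal R v) '' {v : R | v ∈ V ∧ v ≠ 0}
    have hne : S.Nonempty := by
      obtain ⟨v, hv, hv0⟩ := Submodule.exists_mem_ne_zero_of_ne_bot (p := V) (fun h => by
        rw [h, finrank_bot] at hV; omega)
      exact ⟨_, v, ⟨hv, hv0⟩, rfl⟩
    obtain ⟨m, ⟨e, ⟨he, he0⟩, hm⟩, hmin⟩ := wellFounded_lt.has_min S hne
    change addVal R e = m at hm
    replace hmin : ∀ v ∈ V, m ≤ addVal R v := fun v hv => by
      by_cases h : v = 0
      · simp [h]
      · exact not_lt.1 (hmin _ ⟨v, ⟨hv, h⟩, rfl⟩)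
    have hmt : m ≠ ⊤ := fun h => he0 (addVal_eq_top_iff.1 (hm.trans h))
    let K : Submodule k R :=
      { carrier := {v | m + 1 ≤ addVal R v}
        add_mem' := fun {a b} (ha : m + 1 ≤ addVal R a) (hb : m + 1 ≤ addVal R b) =>
          show m + 1 ≤ addVal R (a + b) from le_trans (le_min ha hb) (addVal_add (R := R))
        zero_mem' := by simp
        smul_mem' := fun c a ha => by
          show m + 1 ≤ addVal R (c • a)
          rw [Algebra.smul_def, AddValuation.map_mul]
          exact le_trans ha le_add_self }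
    set V' := V ⊓ K
    have heK : e ∉ K := fun h => by
      have h' : m + 1 ≤ m := by
        have h'' : m + 1 ≤ addVal R e := h
        rwa [hm] at h''
      exact absurd (ENat.lt_add_one_iff hmt |>.2 le_rfl) (not_lt.2 h')
    have hdec : ∀ v ∈ V, ∃ c : k, v - c • e ∈ V' := by
      intro v hv
      have hle : addVal R e ≤ addVal R v := hm ▸ hmin v hv
      obtain ⟨a, rfl⟩ := addVal_le_iff_dvd.1 hle
      obtain ⟨c, hc⟩ := hres a
      refine ⟨c, V.sub_mem hv (V.smul_mem _ he), ?_⟩
      show m + 1 ≤ addVal R (e * a - c • e)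
      rw [Algebra.smul_def, mul_comm (algebraMap k R c) e, ← mul_sub, AddValuation.map_mul, show addVal R e = m from hm]
      exact add_le_add le_rfl hc
    have hsup : V' ⊔ (k ∙ e) = V := by
      refine le_antisymm (sup_le inf_le_left ((Submodule.span_singleton_le_iff_mem _ _).2 he)) fun v hv => ?_
      obtain ⟨c, hc⟩ := hdec v hv
      exact Submodule.mem_sup.2 ⟨_, hc, _, Submodule.smul_mem _ c (Submodule.mem_span_singleton_self e), sub_add_cancel _ _⟩
    have hdisj : V' ⊓ (k ∙ e) = ⊥ := by
      rw [eq_bot_iff]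
      rintro x ⟨hx, hx'⟩
      obtain ⟨c, rfl⟩ := Submodule.mem_span_singleton.1 hx'
      by_contra h
      have hc : c ≠ 0 := fun h0 => h (by simp [h0])
      exact heK (inv_smul_smul₀ hc e ▸ K.smul_mem c⁻¹ hx.2)
    haveI : FiniteDimensional k V' := Submodule.finiteDimensional_of_le inf_le_left
    have hdim : Module.finrank k V' = n := by
      have h := Submodule.finrank_sup_add_finrank_inf_eq V' (k ∙ e)
      rw [hsup, hdisj, hV, finrank_bot, finrank_span_singleton he0] at h
      omega
    obtain ⟨hfin, hcard⟩ := ih V' hdim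
    have hS : S = insert m ((fun v => addVal R v) '' {v : R | v ∈ V' ∧ v ≠ 0}) := by
      ext t
      constructor
      · rintro ⟨v, ⟨hv, hv0⟩, rfl⟩
        rcases (hmin v hv).eq_or_lt with h | h
        · exact Or.inl h.symm
        · exact Or.inr ⟨v, ⟨⟨hv, (ENat.add_one_le_iff hmt).2 h⟩, hv0⟩, rfl⟩
      · rintro (rfl | ⟨v, ⟨hv, hv0⟩, rfl⟩)
        · exact ⟨e, ⟨he, he0⟩, hm⟩
        · exact ⟨v, ⟨hv.1, hv0⟩, rfl⟩
    have hnot : m ∉ (fun v => addVal R v) '' {v : R | v ∈ V' ∧ v ≠ 0} := by
      rintro ⟨v, ⟨hv, -⟩, hvm⟩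
      have h' : m + 1 ≤ m := by
        have h'' : m + 1 ≤ addVal R v := hv.2
        rwa [show addVal R v = m from hvm] at h''
      exact absurd (ENat.lt_add_one_iff hmt |>.2 le_rfl) (not_lt.2 h')
    rw [hS]
    exact ⟨hfin.insert m, by rw [Set.ncard_insert_of_notMem hnot hfin, hcard]⟩

end GrothLib.VanSeq2
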